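import Mathlib

/-! Strong approximation off a finite place for the affine line over a number field. -/

set_option autoImplicit false

open NumberField IsDedekindDomain WithZero

namespace Groth.Agent.NFApprox

variable {k : Type*} [Field k] [NumberField k]

/-- simultaneous approximation at finite places, integral elsewhere -/
theorem exists_finite_approx [DecidableEq (HeightOneSpectrum (𝓞 k))] (B : Finset (HeightOneSpectrum (𝓞 k)))
    (c : HeightOneSpectrum (𝓞 k) → k) (e : ℕ) :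
    ∃ y : k, (∀ v ∈ B, v.valuation k (y - c v) ≤ exp (-(e : ℤ))) ∧ ∀ v ∉ B, v.valuation k y ≤ 1 := by
  classical
  obtain ⟨d, hd, hint⟩ : ∃ d : 𝓞 k, d ≠ 0 ∧ ∀ v ∈ B, IsLocalization.IsInteger (𝓞 k) ((d : 𝓞 k) • c v) := by
    obtain ⟨⟨d, hd⟩, hint⟩ := IsLocalization.exist_integer_multiples (nonZeroDivisors (𝓞 k)) B c
    exact ⟨d, nonZeroDivisors.ne_zero hd, hint⟩
  have hfin : {v : HeightOneSpectrum (𝓞 k) | v.asIdeal ∣ Ideal.span {d}}.Finite :=
    Ideal.finite_factors (by simpa using hd)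
  choose r hr using hint
  have hord : ∀ v : HeightOneSpectrum (𝓞 k), ∃ m : ℕ, v.valuation k (algebraMap (𝓞 k) k d) = exp (-(m : ℤ)) := by
    intro v
    have h0 : v.valuation k (algebraMap (𝓞 k) k d) ≠ 0 := by
      rw [Valuation.ne_zero_iff]; exact RingOfIntegers.coe_ne_zero_iff.2 hd
    have h1 : v.valuation k (algebraMap (𝓞 k) k d) ≤ 1 := v.valuation_le_one d
    rw [← exp_log h0, ← exp_zero, exp_le_exp] at h1
    exact ⟨(-log (v.valuation k (algebraMap (𝓞 k) k d))).toNat, by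
      rw [Int.toNat_of_nonneg (by omega), neg_neg, exp_log h0]⟩
  choose m hm using hord
  obtain ⟨y0, hy0⟩ := IsDedekindDomain.exists_forall_sub_mem_ideal (s := B ∪ hfin.toFinset) (fun v => v.asIdeal)
    (fun v => m v + e) (fun v _ => v.prime) (fun v _ w _ hvw h => hvw (HeightOneSpectrum.ext h))
    (fun v => if h : (v : HeightOneSpectrum (𝓞 k)) ∈ B then r v h else 0)
  have hval : ∀ v (x : 𝓞 k), x ∈ v.asIdeal ^ (m v + e) →
      v.valuation k (algebraMap (𝓞 k) k x / algebraMap (𝓞 k) k d) ≤ exp (-(e : ℤ)) := by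
    intro v x hx
    rw [← v.intValuation_le_pow_iff_mem, ← v.valuation_of_algebraMap (K := k)] at hx
    rw [map_div₀, hm, div_le_iff₀ (by exact exp_pos), ← exp_add]
    refine hx.trans (exp_le_exp.2 ?_)
    push_cast; omega
  refine ⟨algebraMap (𝓞 k) k y0 / algebraMap (𝓞 k) k d, fun v hv => ?_, fun v hv => ?_⟩
  · have h := hy0 v (Finset.mem_union_left _ hv)
    rw [dif_pos hv] at h
    have e1 : algebraMap (𝓞 k) k y0 / algebraMap (𝓞 k) k d - c v =
        algebraMap (𝓞 k) k (y0 - r v hv) / algebraMap (𝓞 k) k d := by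
      have hd0 : algebraMap (𝓞 k) k d ≠ 0 := RingOfIntegers.coe_ne_zero_iff.2 hd
      rw [map_sub, hr v hv, Algebra.smul_def]
      field_simp
    rw [e1]
    exact hval v _ h
  · by_cases hd' : v.asIdeal ∣ Ideal.span {d}
    · have h := hy0 v (Finset.mem_union_right _ (hfin.mem_toFinset.2 hd'))
      rw [dif_neg hv, sub_zero] at h
      refine (hval v _ h).trans ?_
      rw [← exp_zero, exp_le_exp]; omega
    · rw [Ideal.dvd_span_singleton] at hd'
      have h1 : v.valuation k (algebraMap (𝓞 k) k d) = 1 := by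
        rw [v.valuation_of_algebraMap]
        exact (v.intValuation_eq_one_iff_mem_primeCompl d).2 hd'
      rw [map_div₀, h1, div_one]
      exact v.valuation_le_one y0

/-- an element integral away from `v₀` and small at every infinite place -/
theorem exists_small (v₀ : HeightOneSpectrum (𝓞 k)) :
    ∃ u : k, u ≠ 0 ∧ (∀ v, v ≠ v₀ → v.valuation k u ≤ 1) ∧ ∀ w : InfinitePlace k, w u < 1 := by
  classical
  have hvol : 0 < MeasureTheory.volume (mixedEmbedding.convexBodyLT k (fun _ => 1)) := by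
    rw [mixedEmbedding.convexBodyLT_volume]
    simp [mixedEmbedding.convexBodyLTFactor_ne_zero, pos_iff_ne_zero, NNReal.pi_ne_zero]
  have hN : 1 < Ideal.absNorm v₀.asIdeal := by
    rcases Nat.lt_or_ge 1 (Ideal.absNorm v₀.asIdeal) with h | h
    · exact h
    · exfalso
      interval_cases hN : Ideal.absNorm v₀.asIdeal
      · exact v₀.ne_bot (Ideal.absNorm_eq_zero_iff.1 hN)
      · exact v₀.isPrime.ne_top (Ideal.absNorm_eq_one_iff.1 hN)
  have hunit : ∀ n : ℕ, ((v₀.asIdeal ^ n : Ideal (𝓞 k)) : FractionalIdeal (nonZeroDivisors (𝓞 k)) k) ≠ 0 := fun n =>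
    FractionalIdeal.coeIdeal_ne_zero.2 (pow_ne_zero _ v₀.ne_bot)
  set V := MeasureTheory.volume (ZSpan.fundamentalDomain (mixedEmbedding.latticeBasis k)) *
    (2 : ENNReal) ^ (Module.finrank ℝ (mixedEmbedding.mixedSpace k)) with hV
  have hVtop : V ≠ ⊤ := by
    rw [hV]
    exact ENNReal.mul_ne_top (ZSpan.fundamentalDomain_isBounded _).measure_lt_top.ne (ENNReal.pow_ne_top ENNReal.ofNat_ne_top)
  obtain ⟨n, hn⟩ : ∃ n : ℕ, ENNReal.ofReal (((Ideal.absNorm v₀.asIdeal : ℝ) ^ n)⁻¹) * V <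
      MeasureTheory.volume (mixedEmbedding.convexBodyLT k (fun _ => 1)) := by
    have h0 : Filter.Tendsto (fun n : ℕ => ((Ideal.absNorm v₀.asIdeal : ℝ) ^ n)⁻¹) Filter.atTop (nhds 0) :=
      tendsto_inv_atTop_zero.comp (tendsto_pow_atTop_atTop_of_one_lt (by exact_mod_cast hN))
    have h : Filter.Tendsto (fun n : ℕ => ENNReal.ofReal (((Ideal.absNorm v₀.asIdeal : ℝ) ^ n)⁻¹) * V) Filter.atTop (nhds 0) := by
      have := ENNReal.Tendsto.mul_const (ENNReal.tendsto_ofReal h0) (Or.inr hVtop)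
      simpa using this
    exact (h.eventually_lt_const hvol).exists
  obtain ⟨u, huI, hu0, hu⟩ := mixedEmbedding.exists_ne_zero_mem_ideal_lt k ((Units.mk0 _ (hunit n))⁻¹) (f := fun _ => 1) (by
    rw [mixedEmbedding.minkowskiBound, mixedEmbedding.volume_fundamentalDomain_fractionalIdealLatticeBasis,
      mul_assoc, ← hV, Units.val_inv_eq_inv_val, Units.val_mk0, map_inv₀, FractionalIdeal.coeIdeal_absNorm, map_pow]
    convert hn using 3
    push_cast; rfl)
  refine ⟨u, hu0, fun v hv => ?_, fun w => by simpa using hu w⟩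
  obtain ⟨π, hπ, hπv⟩ : ∃ π ∈ v₀.asIdeal ^ n, π ∉ v.asIdeal := by
    by_contra! hc
    rcases Nat.eq_zero_or_pos n with rfl | hn0
    · exact v.isPrime.ne_top (eq_top_iff.2 fun z _ => hc z (by simp))
    · exact hv (HeightOneSpectrum.ext ((v₀.isMaximal.eq_of_le v.isPrime.ne_top
        ((Ideal.IsPrime.pow_le_iff (I := v₀.asIdeal) hn0.ne').1 hc)).symm))
  have h1 : u * algebraMap (𝓞 k) k π ∈ (1 : FractionalIdeal (nonZeroDivisors (𝓞 k)) k) := by
    rw [← inv_mul_cancel₀ (hunit n)]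
    rw [Units.val_inv_eq_inv_val, Units.val_mk0] at huI
    exact FractionalIdeal.mul_mem_mul huI ((FractionalIdeal.mem_coeIdeal _).2 ⟨π, hπ, rfl⟩)
  obtain ⟨a, ha⟩ := (FractionalIdeal.mem_one_iff _).1 h1
  have h2 : v.valuation k (algebraMap (𝓞 k) k π) = 1 := by
    rw [v.valuation_of_algebraMap]; exact (v.intValuation_eq_one_iff_mem_primeCompl π).2 hπv
  calc v.valuation k u = v.valuation k (u * algebraMap (𝓞 k) k π) := by rw [map_mul, h2, mul_one]
    _ ≤ 1 := by rw [← ha]; exact v.valuation_le_one a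

/-- rounding to the integers is uniformly bounded -/
theorem exists_round : ∃ C : ℝ, ∀ x : k, ∃ a : 𝓞 k, ∀ w : InfinitePlace k, w (x - a) ≤ C := by
  classical
  let b := integralBasis k
  let ι := Module.Free.ChooseBasisIndex ℤ (𝓞 k)
  refine ⟨∑ w : InfinitePlace k, ∑ i : ι, w (b i), fun x => ?_⟩
  refine ⟨∑ i, ⌊b.repr x i⌋ • (RingOfIntegers.basis k i), fun w => ?_⟩
  have e : x - ((∑ i, ⌊b.repr x i⌋ • (RingOfIntegers.basis k i) : 𝓞 k) : k) =
      ∑ i, ((b.repr x i - (⌊b.repr x i⌋ : ℚ) : ℚ) : k) * b i := by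
    conv_lhs => enter [1]; rw [← b.sum_repr x]
    simp only [map_sum, map_zsmul, ← Finset.sum_sub_distrib, b, integralBasis_apply]
    refine Finset.sum_congr rfl fun i _ => ?_
    simp only [Rat.smul_def, zsmul_eq_mul]
    push_cast; ring
  rw [e]
  refine le_trans ?_ (Finset.single_le_sum (f := fun w : InfinitePlace k => ∑ i : ι, w (b i))
    (fun w _ => Finset.sum_nonneg fun i _ => w.1.nonneg _) (Finset.mem_univ w))
  refine (AbsoluteValue.sum_le w.1 _ _).trans (Finset.sum_le_sum fun i _ => ?_)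
  rw [map_mul]
  refine mul_le_of_le_one_left (w.1.nonneg _) ?_
  obtain ⟨φ, hφ⟩ := w.2
  rw [← hφ, NumberField.place_apply, map_ratCast, Complex.norm_ratCast]
  have h1 := Int.floor_le (b.repr x i)
  have h2 := Int.lt_floor_add_one (b.repr x i)
  rw [abs_le]
  constructor
  · have : (0 : ℚ) ≤ b.repr x i - (⌊b.repr x i⌋ : ℚ) := by linarith
    have := (Rat.cast_nonneg (K := ℝ)).2 this
    linarith
  · exact_mod_cast (by linarith : b.repr x i - (⌊b.repr x i⌋ : ℚ) ≤ 1)

/-- strong approximation off `v₀` -/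
theorem strong_approx (v₀ : HeightOneSpectrum (𝓞 k)) (B : Finset (HeightOneSpectrum (𝓞 k))) (hB : v₀ ∉ B)
    (x : (v : HeightOneSpectrum (𝓞 k)) → v.adicCompletion k)
    (U : (v : HeightOneSpectrum (𝓞 k)) → Set (v.adicCompletion k)) (hU : ∀ v ∈ B, U v ∈ nhds (x v))
    (xi : (w : InfinitePlace k) → w.Completion) (Ui : (w : InfinitePlace k) → Set w.Completion)
    (hUi : ∀ w, Ui w ∈ nhds (xi w)) :
    ∃ z : k, (∀ v ∈ B, algebraMap k (v.adicCompletion k) z ∈ U v) ∧
      (∀ w : InfinitePlace k, algebraMap k w.Completion z ∈ Ui w) ∧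
      ∀ v, v ∉ B → v ≠ v₀ → v.valuation k z ≤ 1 := by
  classical
  -- finite places
  have hfinite : ∀ v ∈ B, ∃ (c : k) (e : ℕ), ∀ z : k, v.valuation k (z - c) ≤ exp (-(e : ℤ)) →
      algebraMap k (v.adicCompletion k) z ∈ U v := by
    intro v hv
    obtain ⟨γ, hγ⟩ := (Valued.mem_nhds).1 (hU v hv)
    have hopen : IsOpen {y : v.adicCompletion k | Valued.v.restrict (y - x v) < γ.1} :=
      (Valued.isOpen_ball _ _).preimage (continuous_id.sub continuous_const)
    obtain ⟨c, hc⟩ := (v.denseRange_algebraMap (K := k)).exists_mem_open hopen ⟨x v, by simp⟩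
    set g := MonoidWithZeroHom.ValueGroup₀.embedding γ.1 with hg
    have hg0 : g ≠ 0 := (map_ne_zero _).2 γ.ne_zero
    rw [Set.mem_setOf_eq, Valuation.restrict_lt_iff_lt_embedding, ← hg] at hc
    refine ⟨c, (-log g).toNat + 1, fun z hz => hγ ?_⟩
    rw [Set.mem_setOf_eq, Valuation.restrict_lt_iff_lt_embedding, ← hg,
      show algebraMap k (v.adicCompletion k) z - x v = algebraMap k (v.adicCompletion k) (z - c) +
        (algebraMap k (v.adicCompletion k) c - x v) by rw [map_sub]; ring]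
    refine (Valuation.map_add _ _ _).trans_lt (max_lt ?_ hc)
    refine (le_of_eq (v.valuedAdicCompletion_eq_valuation' (z - c))).trans_lt (hz.trans_lt ?_)
    conv_rhs => rw [← exp_log hg0]
    rw [exp_lt_exp]
    omega
  choose! c e he using hfinite
  set E := B.sup e
  obtain ⟨y, hy, hyint⟩ := exists_finite_approx B c E
  -- infinite places
  obtain ⟨ε, hε, hball⟩ : ∃ ε : ℝ, 0 < ε ∧ ∀ (w : InfinitePlace k) (z : w.Completion), dist z (xi w) < ε → z ∈ Ui w := by
    choose ε hε hball using fun w => Metric.mem_nhds_iff.1 (hUi w)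
    refine ⟨(Finset.univ.inf' Finset.univ_nonempty ε), (Finset.lt_inf'_iff _).2 fun w _ => hε w, fun w z hz => hball w ?_⟩
    exact Metric.mem_ball.2 (hz.trans_le (Finset.inf'_le _ (Finset.mem_univ w)))
  obtain ⟨y1, hy1⟩ := (InfiniteAdeleRing.denseRange_algebraMap k).exists_dist_lt xi (half_pos hε)
  obtain ⟨u, hu0, huint, hu1⟩ := exists_small v₀
  obtain ⟨N, hN0, hN⟩ : ∃ N : 𝓞 k, N ≠ 0 ∧ ∀ v ∈ B, N ∈ v.asIdeal ^ E := by
    obtain ⟨N, hN, hN0⟩ := Submodule.exists_mem_ne_zero_of_ne_bot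
      (show (∏ v ∈ B, v.asIdeal ^ E) ≠ ⊥ from Finset.prod_ne_zero_iff.2 fun v _ => pow_ne_zero _ v.ne_bot)
    exact ⟨N, hN0, fun v hv => Ideal.prod_le_inf.trans (Finset.inf_le hv) hN⟩
  obtain ⟨C, hC⟩ := exists_round (k := k)
  obtain ⟨j, hj⟩ : ∃ j : ℕ, ∀ w : InfinitePlace k, w ((N : k) * u ^ j) * C < ε / 2 := by
    have h : ∀ w : InfinitePlace k, Filter.Tendsto (fun j : ℕ => w ((N : k) * u ^ j) * C) Filter.atTop (nhds 0) := fun w => by
      simp only [map_mul, map_pow]
      have := ((tendsto_pow_atTop_nhds_zero_of_lt_one (show 0 ≤ w u from w.1.nonneg u) (hu1 w)).const_mul (w (N : k))).mul_const C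
      simpa using this
    exact (Filter.eventually_all.2 fun w => (h w).eventually_lt_const (half_pos hε)).exists
  set M := (N : k) * u ^ j
  have hM : M ≠ 0 := mul_ne_zero (RingOfIntegers.coe_ne_zero_iff.2 hN0) (pow_ne_zero _ hu0)
  obtain ⟨a, ha⟩ := hC ((y1 - y) / M)
  have hMint : ∀ v, v ≠ v₀ → v.valuation k (M * a) ≤ 1 := fun v hv => by
    rw [map_mul, map_mul, map_pow]
    exact mul_le_one' (mul_le_one' (v.valuation_le_one N) (pow_le_one₀ zero_le (huint v hv))) (v.valuation_le_one a)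
  refine ⟨y + M * a, fun v hv => he v hv _ ?_, fun w => hball w _ ?_, fun v hv hv0 => ?_⟩
  · rw [show y + M * a - c v = (y - c v) + M * a by ring]
    have hE : exp (-(E : ℤ)) ≤ exp (-(e v : ℤ)) := exp_le_exp.2 (by have := Finset.le_sup (f := e) hv; omega)
    refine le_trans ((Valuation.map_add _ _ _).trans (max_le (hy v hv) ?_)) hE
    rw [map_mul, map_mul]
    refine (mul_le_mul' (mul_le_mul' (show v.valuation k (N : k) ≤ exp (-(E : ℤ)) from ?_) ?_) (v.valuation_le_one a)).trans (by rw [mul_one, mul_one])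
    · rw [v.valuation_of_algebraMap]; exact (v.intValuation_le_pow_iff_mem N E).2 (hN v hv)
    · rw [map_pow]; exact pow_le_one₀ zero_le (huint v fun h => hB (h ▸ hv))
  · have h1 : dist (algebraMap k w.Completion y1) (xi w) < ε / 2 :=
      lt_of_le_of_lt (dist_comm (algebraMap k w.Completion y1) (xi w) ▸
        dist_le_pi_dist xi (algebraMap k (InfiniteAdeleRing k) y1 : (w : InfinitePlace k) → w.Completion) w) hy1
    have h2 : dist (algebraMap k w.Completion (y + M * a)) (algebraMap k w.Completion y1) < ε / 2 := by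
      rw [dist_eq_norm, ← map_sub]
      rw [show y + M * a - y1 = M * -((y1 - y) / M - a) by field_simp; ring]
      rw [InfinitePlace.Completion.algebraMap_apply]
      refine lt_of_eq_of_lt (InfinitePlace.Completion.norm_coe w (WithAbs.toAbs w.1 _)) ?_
      refine lt_of_le_of_lt ?_ (hj w)
      rw [show ∀ z : k, WithAbs.equiv w.1 (WithAbs.toAbs w.1 z) = z from fun z => rfl, map_mul]
      refine mul_le_mul_of_nonneg_left ?_ (w.1.nonneg _)
      rw [show w (-((y1 - y) / M - ↑a)) = w ((y1 - y) / M - ↑a) from AbsoluteValue.map_neg _ _]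
      exact ha w
    linarith [dist_triangle (algebraMap k w.Completion (y + M * a)) (algebraMap k w.Completion y1) (xi w)]
  · exact (Valuation.map_add _ _ _).trans (max_le (hyint v hv) (hMint v hv0))

end Groth.Agent.NFApprox
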