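import Groth.Agent.NFApprox.StrongA1
import Groth.Agent.NFApprox.Nagata

/-! Strong approximation for the complement of a codimension two subset of affine space. -/

set_option autoImplicit false

open NumberField IsDedekindDomain WithZero MvPolynomial

namespace Groth.Agent.NFApprox

variable {k : Type*} [Field k] [NumberField k]

theorem val_aeval_le_one {L : Type*} [Field L] [Algebra k L] (w : Valuation L ℤᵐ⁰) {σ : Type*} [Fintype σ]
    (p : MvPolynomial σ k) (y : σ → L) (hp : ∀ d, w (algebraMap k L (p.coeff d)) ≤ 1) (hy : ∀ i, w (y i) ≤ 1) :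
    w (aeval y p) ≤ 1 := by
  rw [aeval_def, eval₂_eq']
  refine w.map_sum_le fun d _ => ?_
  rw [map_mul, map_prod]
  exact mul_le_one' (hp d) (Finset.prod_le_one' fun i _ => by rw [map_pow]; exact pow_le_one₀ zero_le (hy i))

theorem exists_nonroot (v : HeightOneSpectrum (𝓞 k)) (p : Polynomial k) (hp : ∀ i, v.valuation k (p.coeff i) ≤ 1)
    (hlc : v.valuation k p.leadingCoeff = 1) (hcard : p.natDegree < Ideal.absNorm v.asIdeal) :
    ∃ a : k, v.valuation k a ≤ 1 ∧ v.valuation k (p.eval a) = 1 := by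
  classical
  have hcard' : p.natDegree + 1 ≤ Nat.card (𝓞 k ⧸ v.asIdeal) := by
    rw [← Submodule.cardQuot_apply, ← Ideal.absNorm_apply]; omega
  haveI : Finite (𝓞 k ⧸ v.asIdeal) := Nat.finite_of_card_ne_zero (by omega)
  let e : Fin (p.natDegree + 1) ↪ (𝓞 k ⧸ v.asIdeal) :=
    (Fin.castLEEmb hcard').trans (Finite.equivFin _).symm.toEmbedding
  choose a ha using fun i => Ideal.Quotient.mk_surjective (e i)
  have hdiff : ∀ i j, i ≠ j → v.valuation k ((a i : k) - (a j : k)) = 1 := fun i j hij => by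
    rw [← map_sub, v.valuation_of_algebraMap]
    refine (v.intValuation_eq_one_iff_mem_primeCompl _).2 fun hmem => hij (e.injective ?_)
    rw [← ha, ← ha, Ideal.Quotient.eq]
    exact hmem
  have hint : ∀ i, v.valuation k (a i : k) ≤ 1 := fun i => v.valuation_le_one (a i)
  have hev : ∀ i, v.valuation k (p.eval (a i : k)) ≤ 1 := fun i => by
    rw [Polynomial.eval_eq_sum_range]
    refine (v.valuation k).map_sum_le fun l _ => ?_
    rw [map_mul, map_pow]; exact mul_le_one' (hp l) (pow_le_one₀ zero_le (hint i))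
  by_contra! hno
  have hlt : ∀ i, v.valuation k (p.eval (a i : k)) < 1 := fun i => lt_of_le_of_ne (hev i) (hno _ (hint i))
  have hinj : Set.InjOn (fun i => (a i : k)) (Finset.univ : Finset (Fin (p.natDegree + 1))) := fun i _ j _ hij => by
    by_contra hne
    have h := hdiff i j hne
    rw [show (a i : k) = (a j : k) from hij, sub_self, map_zero] at h
    exact zero_ne_one h
  have hp0 : p ≠ 0 := fun h => by rw [h, Polynomial.leadingCoeff_zero, map_zero] at hlc; exact zero_ne_one hlc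
  have h := Lagrange.leadingCoeff_eq_sum (P := p) hinj (by rw [Polynomial.degree_eq_natDegree hp0, Finset.card_univ, Fintype.card_fin]; rfl)
  have : v.valuation k p.leadingCoeff < 1 := by
    rw [h]
    refine (v.valuation k).map_sum_lt one_ne_zero fun i _ => ?_
    rw [map_div₀, map_prod, Finset.prod_eq_one fun j hj => hdiff i j (Finset.ne_of_mem_erase hj).symm, div_one]
    exact hlt i
  exact this.ne hlc

theorem exists_box {ι : Type*} [Finite ι] {X : ι → Type*} [∀ i, TopologicalSpace (X i)] {x : ∀ i, X i} {s : Set (∀ i, X i)}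
    (h : s ∈ nhds x) : ∃ t : ∀ i, Set (X i), (∀ i, t i ∈ nhds (x i)) ∧ ∀ y, (∀ i, y i ∈ t i) → y ∈ s := by
  rw [nhds_pi] at h
  obtain ⟨I, t, ht, hsub⟩ := Filter.mem_pi'.1 h
  exact ⟨t, ht, fun y hy => hsub fun i _ => hy i⟩

theorem int_mem_nhds {v : HeightOneSpectrum (𝓞 k)} {x : v.adicCompletion k} (h : Valued.v x ≤ 1) :
    {y : v.adicCompletion k | Valued.v y ≤ 1} ∈ nhds x :=
  (Valued.isOpen_integer _).mem_nhds h

theorem infinite_places : Infinite (HeightOneSpectrum (𝓞 k)) := by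
  have h : ∀ p : Nat.Primes, ∃ v : HeightOneSpectrum (𝓞 k), ((p : ℕ) : 𝓞 k) ∈ v.asIdeal := by
    intro p
    have hnu : ¬ IsUnit ((p : ℕ) : 𝓞 k) := by
      intro hu
      have := hu.map (Algebra.norm ℤ)
      rw [show ((p : ℕ) : 𝓞 k) = algebraMap ℤ (𝓞 k) (p : ℕ) by simp, Algebra.norm_algebraMap] at this
      rw [isUnit_pow_iff Module.finrank_pos.ne', Int.ofNat_isUnit] at this
      exact p.2.ne_one (Nat.isUnit_iff.1 this)
    obtain ⟨M, hM, hpM⟩ := exists_max_ideal_of_mem_nonunits hnu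
    exact ⟨⟨M, hM.isPrime, fun h => Nat.cast_ne_zero.2 p.2.ne_zero (by rwa [h, Ideal.mem_bot] at hpM)⟩, hpM⟩
  choose v hv using h
  refine Infinite.of_injective v fun p q hpq => ?_
  by_contra hne
  have hc : Nat.Coprime p q := (Nat.coprime_primes p.2 q.2).2 fun h => hne (Subtype.ext h)
  obtain ⟨a, b, hab⟩ := (Nat.Coprime.cast (R := 𝓞 k) hc : IsCoprime ((p : ℕ) : 𝓞 k) ((q : ℕ) : 𝓞 k))
  refine (v p).isPrime.ne_top ((Ideal.eq_top_iff_one _).2 ?_)
  rw [← hab]
  exact add_mem (Ideal.mul_mem_left _ _ (hv p)) (Ideal.mul_mem_left _ _ (hpq ▸ hv q))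

/-- the good points form a neighbourhood -/
theorem good_mem_nhds {σ : Type*} [Fintype σ] {M : ℕ} (v : HeightOneSpectrum (𝓞 k)) (f : Fin M → MvPolynomial σ k)
    {R : σ → v.adicCompletion k} (hR : (∀ i, Valued.v (R i) ≤ 1) ∧ ∃ j, Valued.v (aeval R (f j)) = 1) :
    {y : σ → v.adicCompletion k | (∀ i, Valued.v (y i) ≤ 1) ∧ ∃ j, Valued.v (aeval y (f j)) = 1} ∈ nhds R := by
  obtain ⟨hRi, j, hj⟩ := hR
  have h1 : ∀ i, {y : σ → v.adicCompletion k | Valued.v (y i) ≤ 1} ∈ nhds R := fun i =>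
    ((continuous_apply i).continuousAt (x := R)).preimage_mem_nhds (int_mem_nhds (hRi i))
  have h2 : {y : σ → v.adicCompletion k | Valued.v (aeval y (f j)) = 1} ∈ nhds R := by
    have hne : (Valued.v (aeval R (f j)) : ℤᵐ⁰) ≠ 0 := by rw [hj]; exact one_ne_zero
    have := (show Continuous fun y : σ → v.adicCompletion k => aeval y (f j) by
      simp only [aeval_def, eval₂_eq']; fun_prop).continuousAt.preimage_mem_nhds (Valued.locally_const hne)
    simpa [Set.preimage, hj] using this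
  filter_upwards [Filter.eventually_all.2 h1, h2] with y hy1 hy2
  exact ⟨hy1, j, hy2⟩

theorem finite_bad_poly {σ : Type*} (p : MvPolynomial σ k) :
    {v : HeightOneSpectrum (𝓞 k) | ∃ d, 1 < v.valuation k (p.coeff d)}.Finite := by
  refine ((p.support.finite_toSet).biUnion fun d _ => HeightOneSpectrum.Support.finite (𝓞 k) (p.coeff d)).subset ?_
  rintro v ⟨d, hd⟩
  refine Set.mem_biUnion (show d ∈ (p.support : Set (σ →₀ ℕ)) from mem_support_iff.2 fun h => ?_) hd
  rw [h, map_zero] at hd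
  exact not_lt.2 zero_le hd

theorem finite_nonunit {c : k} (hc : c ≠ 0) : {v : HeightOneSpectrum (𝓞 k) | v.valuation k c ≠ 1}.Finite := by
  refine ((HeightOneSpectrum.Support.finite (𝓞 k) c).union (HeightOneSpectrum.Support.finite (𝓞 k) c⁻¹)).subset fun v hv => ?_
  rcases lt_or_gt_of_ne hv with h | h
  · exact Or.inr (show 1 < v.valuation k c⁻¹ by rw [map_inv₀]; exact (one_lt_inv₀ (zero_lt_iff.2 ((Valuation.ne_zero_iff _).2 hc))).2 h)
  · exact Or.inl h

theorem finite_small_norm (D : ℕ) : {v : HeightOneSpectrum (𝓞 k) | Ideal.absNorm v.asIdeal ≤ D}.Finite :=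
  Set.Finite.preimage (fun _ _ _ _ h => HeightOneSpectrum.ext h) (Ideal.finite_setOfPred_absNorm_le D)

/-- the fibration argument -/
theorem exists_point {m M : ℕ} (f : Fin M → MvPolynomial (Fin (m + 1)) k)
    (hf : ∀ (v : HeightOneSpectrum (𝓞 k)) j d, v.valuation k ((f j).coeff d) ≤ 1)
    (a b : Fin M → MvPolynomial (Fin (m + 1)) k)
    (hlc : IsUnit (finSuccEquiv k m (∑ j, a j * f j)).leadingCoeff)
    (g : MvPolynomial (Fin m) k) (hg : g ≠ 0) (hgeq : ∑ j, b j * f j = rename Fin.succ g)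
    (v₀ : HeightOneSpectrum (𝓞 k)) (B : Finset (HeightOneSpectrum (𝓞 k))) (hB : v₀ ∉ B)
    (p : (v : HeightOneSpectrum (𝓞 k)) → (Fin (m + 1) → v.adicCompletion k))
    (U : (v : HeightOneSpectrum (𝓞 k)) → Set (Fin (m + 1) → v.adicCompletion k)) (hU : ∀ v ∈ B, U v ∈ nhds (p v))
    (pi : (w : InfinitePlace k) → (Fin (m + 1) → w.Completion))
    (Ui : (w : InfinitePlace k) → Set (Fin (m + 1) → w.Completion)) (hUi : ∀ w, Ui w ∈ nhds (pi w))
    (hne : ∀ v : HeightOneSpectrum (𝓞 k), v ∉ B → v ≠ v₀ → ∃ R : Fin (m + 1) → v.adicCompletion k,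
      (∀ i, Valued.v (R i) ≤ 1) ∧ ∃ j, Valued.v (aeval R (f j)) = 1) :
    ∃ P : Fin (m + 1) → k,
      (∀ v ∈ B, (fun i => algebraMap k (v.adicCompletion k) (P i)) ∈ U v) ∧
      (∀ w : InfinitePlace k, (fun i => algebraMap k w.Completion (P i)) ∈ Ui w) ∧
      ∀ v, v ∉ B → v ≠ v₀ → (∀ i, v.valuation k (P i) ≤ 1) ∧ ∃ j, v.valuation k (aeval P (f j)) = 1 := by
  classical
  set H := ∑ j, a j * f j with hH
  set D := (finSuccEquiv k m H).natDegree
  obtain ⟨c, hc, hc'⟩ := (MvPolynomial.isUnit_iff_eq_C_of_isReduced).1 hlc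
  have hc0 : c ≠ 0 := hc.ne_zero
  set bad : Set (HeightOneSpectrum (𝓞 k)) := (⋃ j, {v | ∃ d, 1 < v.valuation k ((a j).coeff d)}) ∪
    (⋃ j, {v | ∃ d, 1 < v.valuation k ((b j).coeff d)}) ∪ {v | ∃ d, 1 < v.valuation k (H.coeff d)} ∪
    {v | v.valuation k c ≠ 1} ∪ {v | Ideal.absNorm v.asIdeal ≤ D} with hbad
  have hbadf : bad.Finite := ((((Set.finite_iUnion fun j => finite_bad_poly (a j)).union
    (Set.finite_iUnion fun j => finite_bad_poly (b j))).union (finite_bad_poly H)).union (finite_nonunit hc0)).union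
    (finite_small_norm D)
  set B1 := B ∪ hbadf.toFinset.erase v₀ with hB1
  have hB1v : v₀ ∉ B1 := by simp [hB1, hB]
  let good : (v : HeightOneSpectrum (𝓞 k)) → Set (Fin (m + 1) → v.adicCompletion k) := fun v =>
    {y | (∀ i, Valued.v (y i) ≤ 1) ∧ ∃ j, Valued.v (aeval y (f j)) = 1}
  have hsel : ∀ v, ∃ (q : Fin (m + 1) → v.adicCompletion k) (t : Fin (m + 1) → Set (v.adicCompletion k)),
      v ∈ B1 → (∀ i, t i ∈ nhds (q i)) ∧ ∀ y, (∀ i, y i ∈ t i) → if v ∈ B then y ∈ U v else y ∈ good v := by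
    intro v
    by_cases hvB : v ∈ B
    · obtain ⟨t, ht, ht'⟩ := exists_box (hU v hvB)
      exact ⟨p v, t, fun _ => ⟨ht, fun y hy => by rw [if_pos hvB]; exact ht' y hy⟩⟩
    by_cases hv1 : v ∈ B1
    · obtain ⟨R, hR⟩ := hne v hvB (by rintro rfl; exact hB1v hv1)
      obtain ⟨t, ht, ht'⟩ := exists_box (good_mem_nhds v f hR)
      exact ⟨R, t, fun _ => ⟨ht, fun y hy => by rw [if_neg hvB]; exact ht' y hy⟩⟩
    · exact ⟨0, fun _ => ∅, fun h => absurd h hv1⟩
  choose q t hqt using hsel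
  have hseli : ∀ w, ∃ s : Fin (m + 1) → Set w.Completion,
      (∀ i, s i ∈ nhds (pi w i)) ∧ ∀ y, (∀ i, y i ∈ s i) → y ∈ Ui w := fun w => exists_box (hUi w)
  choose s hs hs' using hseli
  -- an auxiliary place forcing `g ≠ 0`
  haveI := infinite_places (k := k)
  obtain ⟨v₁, hv₁⟩ : ∃ v₁ : HeightOneSpectrum (𝓞 k), v₁ ∉ insert v₀ B1 :=
    (insert v₀ B1).exists_notMem
  obtain ⟨z, hz⟩ : ∃ z : Fin m → 𝓞 k, eval (fun i => (z i : k)) g ≠ 0 := by
    by_contra! hall
    refine hg (MvPolynomial.funext_set (fun _ => Set.range (algebraMap (𝓞 k) k))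
      (fun _ => Set.infinite_range_of_injective RingOfIntegers.coe_injective) fun x hx => ?_)
    choose z hz using fun i => hx i (Set.mem_univ _)
    rw [map_zero, show x = fun i => (z i : k) from funext fun i => (hz i).symm]
    exact hall z
  let z' : Fin m → v₁.adicCompletion k := fun i => algebraMap k _ (z i : k)
  have hz1 : {y : Fin m → v₁.adicCompletion k | (∀ i, Valued.v (y i) ≤ 1) ∧ aeval y g ≠ 0} ∈ nhds z' := by
    have h2 : {y : Fin m → v₁.adicCompletion k | aeval y g ≠ 0} ∈ nhds z' := by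
      refine (show Continuous fun y : Fin m → v₁.adicCompletion k => aeval y g by
        simp only [aeval_def, eval₂_eq']; fun_prop).continuousAt.preimage_mem_nhds (isOpen_ne.mem_nhds ?_)
      have : aeval z' g = algebraMap k (v₁.adicCompletion k) (eval (fun i => (z i : k)) g) := by
        rw [aeval_def, ← eval₂_id, eval₂_comp_left (algebraMap k (v₁.adicCompletion k))]; rfl
      rw [this]
      exact (map_ne_zero _).2 hz
    have h1 : ∀ i, {y : Fin m → v₁.adicCompletion k | Valued.v (y i) ≤ 1} ∈ nhds z' := fun i =>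
      ((continuous_apply i).continuousAt (x := z')).preimage_mem_nhds (int_mem_nhds (by
        change Valued.v (algebraMap k (v₁.adicCompletion k) (z i : k)) ≤ 1
        exact (le_of_eq (v₁.valuedAdicCompletion_eq_valuation' (z i : k))).trans (v₁.valuation_le_one (z i))))
    filter_upwards [Filter.eventually_all.2 h1, h2] with y hy1 hy2
    exact ⟨hy1, hy2⟩
  obtain ⟨t1, ht1, ht1'⟩ := exists_box hz1
  -- the first `m` coordinates
  rw [Finset.mem_insert, not_or] at hv₁
  have hstep : ∀ i : Fin m, ∃ z : k, (∀ v ∈ B1, algebraMap k (v.adicCompletion k) z ∈ t v i.succ) ∧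
      algebraMap k (v₁.adicCompletion k) z ∈ t1 i ∧
      (∀ w : InfinitePlace k, algebraMap k w.Completion z ∈ s w i.succ) ∧
      ∀ v, v ∉ B1 → v ≠ v₀ → v.valuation k z ≤ 1 := by
    intro i
    have hext : ∀ v, ∃ (x : v.adicCompletion k) (T : Set (v.adicCompletion k)), (v ∈ insert v₁ B1 → T ∈ nhds x) ∧
        (∀ y, algebraMap k (v.adicCompletion k) y ∈ T → (v ∈ B1 → algebraMap k (v.adicCompletion k) y ∈ t v i.succ) ∧
          (v = v₁ → v.valuation k y ≤ 1 ∧ algebraMap k (v₁.adicCompletion k) y ∈ t1 i)) := by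
      intro v
      by_cases h1 : v = v₁
      · subst h1
        refine ⟨z' i, t1 i ∩ {y | Valued.v y ≤ 1}, fun _ => Filter.inter_mem (ht1 i) ((Valued.isOpen_integer _).mem_nhds ?_),
          fun y hy => ⟨fun h => absurd h hv₁.2, fun _ => ⟨(le_of_eq (v.valuedAdicCompletion_eq_valuation' y).symm).trans hy.2, hy.1⟩⟩⟩
        exact (le_of_eq (v.valuedAdicCompletion_eq_valuation' (z i : k))).trans (v.valuation_le_one (z i))
      · exact ⟨q v i.succ, t v i.succ, fun h => (hqt v ((Finset.mem_insert.1 h).resolve_left h1)).1 i.succ,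
          fun y hy => ⟨fun _ => hy, fun h => absurd h h1⟩⟩
    choose x T hT hT' using hext
    obtain ⟨y, hy, hyi, hyint⟩ := strong_approx v₀ (insert v₁ B1) (by simp [hB1v, Ne.symm hv₁.1]) x T hT
      (fun w => pi w i.succ) (fun w => s w i.succ) (fun w => hs w i.succ)
    refine ⟨y, fun v hv => (hT' v y (hy v (Finset.mem_insert_of_mem hv))).1 hv,
      ((hT' v₁ y (hy v₁ (Finset.mem_insert_self _ _))).2 rfl).2, hyi, fun v hv hv0 => ?_⟩
    rcases eq_or_ne v v₁ with rfl | h1
    · exact ((hT' v y (hy v (Finset.mem_insert_self _ _))).2 rfl).1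
    · exact hyint v (by simp [h1, hv]) hv0
  choose x hx hx1 hxi hxint using hstep
  set gx := eval x g with hgxdef
  have hgx : gx ≠ 0 := by
    intro h0
    refine (ht1' _ hx1).2 ?_
    rw [aeval_def, show (fun i => algebraMap k (v₁.adicCompletion k) (x i)) = algebraMap k (v₁.adicCompletion k) ∘ x from rfl]
    have := eval₂_comp_left (algebraMap k (v₁.adicCompletion k)) (RingHom.id k) x g
    rw [RingHom.comp_id, eval₂_id] at this
    rw [← this, ← hgxdef, h0, map_zero]
  -- the last coordinate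
  set B2 := B1 ∪ ((finite_nonunit hgx).toFinset.erase v₀) with hB2
  have hB2v : v₀ ∉ B2 := by simp [hB2, hB1v]
  set px := Polynomial.map (eval x) (finSuccEquiv k m H) with hpx
  have hgood : ∀ v, v ∉ B1 → v ≠ v₀ → (∀ j d, v.valuation k ((a j).coeff d) ≤ 1) ∧
      (∀ j d, v.valuation k ((b j).coeff d) ≤ 1) ∧ (∀ d, v.valuation k (H.coeff d) ≤ 1) ∧
      v.valuation k c = 1 ∧ D < Ideal.absNorm v.asIdeal := by
    intro v hv hv0
    have : v ∉ bad := fun h => hv (Finset.mem_union_right _ (Finset.mem_erase.2 ⟨hv0, hbadf.mem_toFinset.2 h⟩))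
    simp only [hbad, Set.mem_union, Set.mem_iUnion, Set.mem_setOf_eq, not_or, not_exists, not_lt, not_le, not_not] at this
    obtain ⟨⟨⟨⟨h1, h2⟩, h3⟩, h4⟩, h5⟩ := this
    exact ⟨h1, h2, h3, h4, h5⟩
  have hsel2 : ∀ v, ∃ (y : v.adicCompletion k) (T : Set (v.adicCompletion k)), (v ∈ B2 → T ∈ nhds y) ∧
      ∀ z : k, algebraMap k (v.adicCompletion k) z ∈ T → (v ∈ B1 → algebraMap k (v.adicCompletion k) z ∈ t v 0) ∧
        (v ∉ B1 → v ∈ B2 → v.valuation k z ≤ 1 ∧ v.valuation k (px.eval z) = 1) := by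
    intro v
    by_cases h1 : v ∈ B1
    · exact ⟨q v 0, t v 0, fun _ => (hqt v h1).1 0, fun z hz => ⟨fun _ => hz, fun h => absurd h1 h⟩⟩
    by_cases h2 : v ∈ B2
    swap
    · exact ⟨0, Set.univ, fun _ => Filter.univ_mem, fun z _ => ⟨fun h => absurd h h1, fun _ h => absurd h h2⟩⟩
    have hv0 : v ≠ v₀ := by rintro rfl; exact hB2v h2
    obtain ⟨-, -, hHc, hcv, hcard⟩ := hgood v h1 hv0
    have hcoef : ∀ i, v.valuation k (px.coeff i) ≤ 1 := fun i => by
      rw [hpx, Polynomial.coeff_map, ← aeval_eq_eval]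
      exact val_aeval_le_one (v.valuation k) _ x (fun d => by
        rw [finSuccEquiv_coeff_coeff]; exact hHc _) fun l => hxint l v h1 hv0
    have hlcx : px.leadingCoeff = c := by
      rw [hpx, Polynomial.leadingCoeff_map_of_leadingCoeff_ne_zero, hc', eval_C]
      rw [hc', eval_C]; exact hc0
    obtain ⟨a₀, ha₀, ha₀'⟩ := exists_nonroot v px hcoef (hlcx ▸ hcv)
      ((Polynomial.natDegree_map_le).trans_lt hcard)
    let pv : Polynomial (v.adicCompletion k) := px.map (algebraMap k _)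
    refine ⟨algebraMap k _ a₀, {y | Valued.v y ≤ 1} ∩ {y | Valued.v (pv.eval y) = 1}, fun _ => Filter.inter_mem
      ((Valued.isOpen_integer _).mem_nhds ((le_of_eq (v.valuedAdicCompletion_eq_valuation' a₀)).trans ha₀)) ?_,
      fun z hz => ⟨fun h => absurd h h1, fun _ _ => ⟨(le_of_eq (v.valuedAdicCompletion_eq_valuation' z).symm).trans hz.1, ?_⟩⟩⟩
    · have e : Valued.v (pv.eval (algebraMap k (v.adicCompletion k) a₀)) = (1 : ℤᵐ⁰) := by
        rw [Polynomial.eval_map, Polynomial.eval₂_at_apply]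
        exact (v.valuedAdicCompletion_eq_valuation' _).trans ha₀'
      have := pv.continuous.continuousAt.preimage_mem_nhds
        (Valued.locally_const (show (Valued.v (pv.eval (algebraMap k (v.adicCompletion k) a₀)) : ℤᵐ⁰) ≠ 0 by rw [e]; exact one_ne_zero))
      simpa [Set.preimage, e] using this
    · have := hz.2
      rw [Set.mem_setOf_eq, Polynomial.eval_map, Polynomial.eval₂_at_apply] at this
      exact (v.valuedAdicCompletion_eq_valuation' _).symm.trans this
  choose y0 T0 hT0 hT0' using hsel2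
  obtain ⟨x0, hx0, hx0i, hx0int⟩ := strong_approx v₀ B2 hB2v y0 T0 hT0 (fun w => pi w 0) (fun w => s w 0) (fun w => hs w 0)
  let P : Fin (m + 1) → k := Fin.cons x0 x
  have hB1good : ∀ v ∈ B1, if v ∈ B then (fun i => algebraMap k (v.adicCompletion k) (P i)) ∈ U v
      else (fun i => algebraMap k (v.adicCompletion k) (P i)) ∈ good v := fun v hv =>
    (hqt v hv).2 _ fun i => by
      refine Fin.cases ?_ ?_ i
      · exact (hT0' v x0 (hx0 v (Finset.mem_union_left _ hv))).1 hv
      · exact fun l => hx l v hv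
  refine ⟨P, fun v hv => ?_, fun w => hs' w _ fun i => ?_, fun v hv hv0 => ?_⟩
  · have := hB1good v (Finset.mem_union_left _ hv); rwa [if_pos hv] at this
  · refine Fin.cases ?_ ?_ i
    · exact hx0i w
    · exact fun l => hxi l w
  by_cases h1 : v ∈ B1
  · have := hB1good v h1
    rw [if_neg hv] at this
    obtain ⟨hi, j, hj⟩ := this
    refine ⟨fun i => (le_of_eq (v.valuedAdicCompletion_eq_valuation' (P i)).symm).trans (hi i), j, ?_⟩
    rw [← v.valuedAdicCompletion_eq_valuation']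
    refine Eq.trans ?_ hj
    exact congrArg _ (MvPolynomial.aeval_algebraMap_apply (v.adicCompletion k) P (f j)).symm
  obtain ⟨haint, hbint, -, -, -⟩ := hgood v h1 hv0
  have hPint : ∀ i, v.valuation k (P i) ≤ 1 := fun i => by
    refine Fin.cases ?_ ?_ i
    · by_cases h2 : v ∈ B2
      · exact ((hT0' v x0 (hx0 v h2)).2 h1 h2).1
      · exact hx0int v h2 hv0
    · exact fun l => hxint l v h1 hv0
  have key : ∀ e : Fin M → MvPolynomial (Fin (m + 1)) k, (∀ j d, v.valuation k ((e j).coeff d) ≤ 1) →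
      v.valuation k (eval P (∑ j, e j * f j)) = 1 → ∃ j, v.valuation k (aeval P (f j)) = 1 := by
    intro e he h
    by_contra! hno
    refine (lt_irrefl (1 : ℤᵐ⁰)) (lt_of_eq_of_lt h.symm ?_)
    rw [map_sum]
    refine (v.valuation k).map_sum_lt one_ne_zero fun j _ => ?_
    rw [map_mul, map_mul, ← aeval_eq_eval]
    refine (mul_le_of_le_one_left' ?_).trans_lt (lt_of_le_of_ne ?_ (hno j))
    · exact val_aeval_le_one (v.valuation k) _ P (he j) hPint
    · exact val_aeval_le_one (v.valuation k) _ P (hf v j) hPint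
  refine ⟨hPint, ?_⟩
  by_cases h2 : v ∈ B2
  · refine key a haint ?_
    rw [eval_eq_eval_mv_eval']
    exact ((hT0' v x0 (hx0 v h2)).2 h1 h2).2
  · refine key b hbint ?_
    rw [hgeq, eval_rename]
    have : ¬ v.valuation k gx ≠ 1 := fun h => h2 (Finset.mem_union_right _ (Finset.mem_erase.2 ⟨hv0, (finite_nonunit hgx).mem_toFinset.2 h⟩))
    rw [not_not] at this
    exact this

end Groth.Agent.NFApprox
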